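import Groth.Agent.PerfA.HypPush2

/-!
# Cohomological dimension of a union of `n + 1` affine opens

* `Cov C n U`: `U` is a union of `n + 1` opens of the class `C`.
* `eq_zero_of_cov`: if `C` consists of affine opens and is stable under intersections, then for `K ∈ D_QCoh^{≤ a}`
  and `Cov C n U` the hypercohomology `H^m(U, K)` vanishes for `m > a + n`.
* `isLE_Rpush`: if `f : X ⟶ S`, `S` affine and `X` is separated and covered by `n + 1` affine opens, then
  `Rf_*` maps `D_QCoh^{≤ a}` to `D^{≤ a + n}`.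
-/

set_option autoImplicit false

universe u

open CategoryTheory CategoryTheory.Limits AlgebraicGeometry Opposite TopologicalSpace
open Groth.Agent.PerfA.ExtZero Groth.Agent.PerfA.Hyp0 Groth.Agent.PerfA.Hyp1 Groth.Agent.PerfA.Hyp2
open Groth.Agent.PerfA.HypBound Groth.Agent.PerfA.HypPush
open Groth.Agent.PerfA

attribute [local instance] HasDerivedCategory.standard

namespace Groth.Agent.Pic13.H561.AffCovAmp

variable {X S : Scheme.{u}}

/-- `U` is a union of `n + 1` opens of the class `C`. -/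
def Cov (C : X.Opens → Prop) : ℕ → X.Opens → Prop
  | 0, U => C U
  | n + 1, U => ∃ W V : X.Opens, Cov C n W ∧ C V ∧ U = W ⊔ V

lemma Cov.inf {C : X.Opens → Prop} (hC : ∀ U V, C U → C V → C (U ⊓ V)) :
    ∀ (n : ℕ) (U V : X.Opens), Cov C n U → C V → Cov C n (U ⊓ V)
  | 0, _, _, hU, hV => hC _ _ hU hV
  | n + 1, _, V, ⟨W, V', hW, hV', e⟩, hV =>
    ⟨W ⊓ V, V' ⊓ V, Cov.inf hC n W V hW hV, hC _ _ hV' hV, by rw [e, inf_sup_right]⟩

lemma cov_iSup {C : X.Opens → Prop} : ∀ (n : ℕ) (W : Fin (n + 1) → X.Opens), (∀ i, C (W i)) →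
    Cov C n (⨆ i, W i)
  | 0, W, h => by
    have : (⨆ i, W i) = W 0 := by
      apply le_antisymm
      · refine iSup_le fun i => ?_
        have hi : i = 0 := Fin.ext (by omega)
        rw [hi]
      · exact le_iSup W 0
    rw [this]
    exact h 0
  | n + 1, W, h => by
    refine ⟨⨆ i : Fin (n + 1), W i.castSucc, W (Fin.last _), cov_iSup n _ fun i => h _, h _, ?_⟩
    apply le_antisymm
    · refine iSup_le fun i => ?_
      induction i using Fin.lastCases with
      | last => exact le_sup_right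
      | cast i => exact le_trans (le_iSup (fun i : Fin (n + 1) => W i.castSucc) i) le_sup_left
    · exact sup_le (iSup_le fun i => le_iSup W i.castSucc) (le_iSup W _)

/-- Vanishing of hypercohomology above the amplitude plus the number of opens minus one. -/
theorem eq_zero_of_cov {C : X.Opens → Prop} (hCa : ∀ U, C U → IsAffineOpen U)
    (hC : ∀ U V, C U → C V → C (U ⊓ V)) (K : DCoh.D X) (hK : AffBij K) (a : ℤ) (ha : K.IsLE a) :
    ∀ (n : ℕ) (U : X.Opens), Cov C n U → ∀ m : ℤ, a + n < m → ∀ φ : P m U ⟶ K, φ = 0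
  | 0, U, hU, m, hm, φ => by
    refine hK.eq_zero_of_isZero (hCa _ hU) φ ?_
    exact DerivedCategory.isZero_of_isLE K a m (by lia)
  | n + 1, U, ⟨W, V, hW, hV, e⟩, m, hm, φ => by
    have key : ∀ φ : P m (W ⊔ V) ⟶ K, φ = 0 := fun φ => by
      obtain ⟨ψ, hψ⟩ := mv_exists_δ (n := m - 1) (by lia) φ
        (eq_zero_of_cov hCa hC K hK a ha n W hW m (by lia) _)
        (hK.eq_zero_of_isZero (hCa _ hV) _ (DerivedCategory.isZero_of_isLE K a m (by lia)))
      rw [hψ, eq_zero_of_cov hCa hC K hK a ha n (W ⊓ V) (Cov.inf hC n W V hW hV) (m - 1) (by lia) ψ,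
        comp_zero]
    subst e
    exact key φ

/-- If `S` is affine and the separated `S`-scheme `X` is a union of `n + 1` affine opens, then `Rf_*` sends
`D_QCoh^{≤ a}` to `D^{≤ a + n}`. -/
theorem isLE_Rpush (f : X ⟶ S) [IsAffine S] [IsSeparated f] [DCoh.HasRpush f] (n : ℕ)
    (W : Fin (n + 1) → X.Opens) (hW : ∀ i, IsAffineOpen (W i)) (hcov : ⨆ i, W i = ⊤)
    (E : DCoh.D X) (hE : DCoh.IsQCohD E) (a : ℤ) (ha : E.IsLE a) :
    ((DCoh.Rpush f).obj E).IsLE (a + n) := by
  have hXs : X.IsSeparated := by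
    have : IsSeparated (f ≫ terminal.from S) := inferInstance
    rw [terminalIsTerminal.hom_ext (f ≫ terminal.from S) (terminal.from X)] at this
    exact ⟨this⟩
  refine (DerivedCategory.isLE_iff _ _).2 fun m hm => ?_
  obtain ⟨L, hL, ⟨e⟩⟩ := LoccohB.RpushTri.exists_isKInjective_iso
    (LoccohB.RpushTri.hasKInj_modules X) E
  refine IsZero.of_iso ?_ ((DerivedCategory.homologyFunctor S.Modules m).mapIso
    ((DCoh.Rpush f).mapIso e) ≪≫ HypPush2.HDRpushIso f L hL m)
  rw [← HomologicalComplex.exactAt_iff_isZero_homology]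
  refine exactAt_pushC f L hL m fun V x hx => ?_
  obtain ⟨W', hW', hxW', hle⟩ := exists_isAffineOpen_mem_and_subset (U := V) hx
  refine ⟨W', hle, hxW', fun φ => ?_⟩
  have h1 : ∀ i, IsAffineOpen (W i ⊓ f ⁻¹ᵁ W') := fun i =>
    HypPush2.isAffineOpen_inf_preimage f (isAffineOpen_top S) hW' le_top (hW i) le_top
  have h2 : (⨆ i, W i ⊓ f ⁻¹ᵁ W') = f ⁻¹ᵁ W' := by rw [← iSup_inf_eq, hcov, top_inf_eq]
  have h3 : Cov (fun U : X.Opens => IsAffineOpen U) n (f ⁻¹ᵁ W') := by
    rw [← h2]; exact cov_iSup n _ h1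
  have h4 := eq_zero_of_cov (fun U hU => hU) (fun U V hU hV => hU.inf hV) E
    (fun m U hU => HypAffine.toHD_bijective E hE U hU m) a ha n _ h3 m hm (φ ≫ e.inv)
  rw [← cancel_mono e.inv, h4, zero_comp]

end Groth.Agent.Pic13.H561.AffCovAmp
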