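import Groth.Agent.Pic13.H561.AffCovAmp
import Groth.Agent.Sga5.ProjSmooth
import Groth.Agent.Dix.ProjProper
import Mathlib.AlgebraicGeometry.Morphisms.Flat
import Mathlib.AlgebraicGeometry.Morphisms.FinitePresentation

/-!
# `R pr_*` for projective space over an affine base has amplitude at most `r`

* `isLE_Rpush_toBase`: for `Y` affine, `R pr_* : D_QCoh^{≤ a}(P^r_Y) → D^{≤ a + r}(Y)`.
* `flat_toBase`, `locallyOfFinitePresentation_toBase` (for all `r`, any base).
-/

set_option autoImplicit false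

universe u

open CategoryTheory CategoryTheory.Limits AlgebraicGeometry

attribute [local instance] HasDerivedCategory.standard

namespace Groth.Agent.Pic13.H561.ProjAmp

open Groth.Agent.Dix.ProjProper Groth.Agent.Sga5.ProjSmooth

theorem smooth_toBase (r : ℕ) (Y : Scheme.{u}) :
    SmoothOfRelativeDimension r (CohB1.ProjSpaceOver.toBase r Y) := by
  have h : MorphismProperty.IsStableUnderBaseChange
      (@SmoothOfRelativeDimension r : MorphismProperty Scheme.{u}) :=
    smoothOfRelativeDimension_isStableUnderBaseChange r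
  exact MorphismProperty.of_isPullback (P := @SmoothOfRelativeDimension r) (isPullback_toZ r Y)
    (smooth_toSpec r _)

theorem flat_toBase (r : ℕ) (Y : Scheme.{u}) : Flat (CohB1.ProjSpaceOver.toBase r Y) := by
  have h := smooth_toBase r Y
  have h2 : Smooth (CohB1.ProjSpaceOver.toBase r Y) := SmoothOfRelativeDimension.smooth r _
  infer_instance

theorem locallyOfFinitePresentation_toBase (r : ℕ) (Y : Scheme.{u}) :
    LocallyOfFinitePresentation (CohB1.ProjSpaceOver.toBase r Y) := by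
  have h := smooth_toBase r Y
  have h2 : Smooth (CohB1.ProjSpaceOver.toBase r Y) := SmoothOfRelativeDimension.smooth r _
  infer_instance

/-- The standard affine open cover of `P^r_Y`, `Y` affine. -/
noncomputable def stdOpen (r : ℕ) (Y : Scheme.{u}) (i : Fin (r + 1)) :
    (CohB1.ProjSpaceOver r Y).Opens :=
  toZ r Y ⁻¹ᵁ (chart r (ULift.{u} ℤ) i).opensRange

theorem isAffineHom_toZ (r : ℕ) (Y : Scheme.{u}) [IsAffine Y] : IsAffineHom (toZ r Y) :=
  MorphismProperty.of_isPullback (P := @IsAffineHom) (isPullback_toZ r Y).flip inferInstance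

theorem isAffineOpen_stdOpen (r : ℕ) (Y : Scheme.{u}) [IsAffine Y] (i : Fin (r + 1)) :
    IsAffineOpen (stdOpen r Y i) := by
  have := isAffineHom_toZ r Y
  exact (isAffineOpen_opensRange (chart r (ULift.{u} ℤ) i)).preimage (toZ r Y)

theorem iSup_stdOpen (r : ℕ) (Y : Scheme.{u}) : ⨆ i, stdOpen r Y i = ⊤ := by
  refine top_le_iff.mp fun x _ => ?_
  obtain ⟨i, hi⟩ := exists_mem_chart r (ULift.{u} ℤ) (toZ r Y x)
  exact TopologicalSpace.Opens.mem_iSup.mpr ⟨i, hi⟩

/-- For `Y` affine, `R pr_*` sends `D_QCoh^{≤ a}(P^r_Y)` to `D^{≤ a + r}(Y)`. -/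
theorem isLE_Rpush_toBase (Y : Scheme.{u}) [IsAffine Y] (r : ℕ)
    [DCoh.HasRpush (CohB1.ProjSpaceOver.toBase r Y)] (E : DCoh.D (CohB1.ProjSpaceOver r Y))
    (hE : DCoh.IsQCohD E) (a : ℤ) (ha : E.IsLE a) :
    ((DCoh.Rpush (CohB1.ProjSpaceOver.toBase r Y)).obj E).IsLE (a + r) :=
  AffCovAmp.isLE_Rpush _ r (stdOpen r Y) (isAffineOpen_stdOpen r Y) (iSup_stdOpen r Y) E hE a ha

end Groth.Agent.Pic13.H561.ProjAmp
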